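import Groth.Agent.Synt29.SyntomicAt
import Groth.Agent.Synt29.Comp
import Groth.Agent.KRegLib.SyntBC
import Groth.Agent.DirColim.Descend
import Groth.Agent.FlatSyz5.Colim
import Groth.Agent.PopescuLib.StageDescent

/-!
# Syntomic algebras descend to a stage of a filtered colimit
-/

set_option autoImplicit false
set_option linter.style.haveILetI false
set_option backward.isDefEq.respectTransparency.types false

universe u

open TensorProduct

namespace Groth.Agent.H1Syn

/-- The complete-intersection points upstairs come from such points downstairs. -/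
theorem span_good_eq_top {A A' B : Type u} [CommRing A] [CommRing A'] [CommRing B] [Algebra A A'] [Algebra A B]
    [Module.Flat A B] [Algebra.FinitePresentation A B] (h : Synt.IsSyntomic A' (A' ⊗[A] B)) :
    Ideal.span ((Algebra.TensorProduct.includeRight : B →ₐ[A] A' ⊗[A] B) ''
      {g : B | Synt.IsSyntomic A (Localization.Away g)}) = ⊤ := by
  by_contra hne
  obtain ⟨m, hm, hle⟩ := Ideal.exists_le_maximal _ hne
  haveI : m.IsPrime := hm.isPrime
  let p : PrimeSpectrum A' := ⟨m.comap (algebraMap A' (A' ⊗[A] B)), inferInstance⟩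
  let p₀ : PrimeSpectrum A := ⟨p.asIdeal.comap (algebraMap A A'), inferInstance⟩
  let k := p₀.asIdeal.ResidueField
  let L := p.asIdeal.ResidueField
  let B' := A' ⊗[A] B
  let F := p₀.asIdeal.Fiber B
  let F' := p.asIdeal.Fiber B'
  obtain ⟨Q', hQ'⟩ := FlatLoc6.exists_fiber_prime (B := B') p.asIdeal m rfl
  letI : Algebra k L := (Ideal.ResidueField.map p₀.asIdeal p.asIdeal (algebraMap A A') rfl).toAlgebra
  haveI : IsScalarTower A k L := IsScalarTower.of_algebraMap_eq fun x => by
    show algebraMap A L x = Ideal.ResidueField.map p₀.asIdeal p.asIdeal (algebraMap A A') rfl (algebraMap A k x)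
    rw [Ideal.ResidueField.map_algebraMap, ← IsScalarTower.algebraMap_apply]
  letI : Algebra B B' := Algebra.TensorProduct.rightAlgebra
  letI : Algebra B F := Algebra.TensorProduct.rightAlgebra
  letI : Algebra B' F' := Algebra.TensorProduct.rightAlgebra
  haveI : IsScalarTower k L F' := inferInstance
  letI : Algebra B F' := ((algebraMap B' F').comp (algebraMap B B')).toAlgebra
  haveI : IsScalarTower B B' F' := IsScalarTower.of_algebraMap_eq fun _ => rfl
  haveI : IsScalarTower A L F' := inferInstance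
  haveI : IsScalarTower A A' F' := inferInstance
  haveI : IsScalarTower A B F' := IsScalarTower.of_algebraMap_eq fun x => by
    show _ = algebraMap B' F' (algebraMap B B' (algebraMap A B x))
    rw [← IsScalarTower.algebraMap_apply A B B', IsScalarTower.algebraMap_apply A A' B',
      ← IsScalarTower.algebraMap_apply A' B' F', ← IsScalarTower.algebraMap_apply A A' F']
  haveI : IsScalarTower A k F' := inferInstance
  let φ : F →ₐ[A] F' := Algebra.TensorProduct.lift (IsScalarTower.toAlgHom A k F') (IsScalarTower.toAlgHom A B F')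
    (fun _ _ => Commute.all _ _)
  letI : Algebra F F' := φ.toRingHom.toAlgebra
  haveI : IsScalarTower k F F' := IsScalarTower.of_algebraMap_eq fun x => by
    show algebraMap k F' x = φ (x ⊗ₜ[A] (1 : B))
    rw [Algebra.TensorProduct.lift_tmul, map_one, mul_one]
    rfl
  haveI : IsScalarTower B F F' := IsScalarTower.of_algebraMap_eq fun x => by
    show algebraMap B F' x = φ ((1 : k) ⊗ₜ[A] x)
    rw [Algebra.TensorProduct.lift_tmul, map_one, one_mul]
    rfl
  haveI : Algebra.IsPushout k L F F' := KRegLib.isPushout_fiber (A := A) (A' := A') (B := B) (B' := B')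
  let Q : Ideal F := Q'.asIdeal.comap (algebraMap F F')
  haveI : Q.IsPrime := Ideal.comap_isPrime _ _
  have hCI : Synt.IsCIOver k (Localization.AtPrime Q) :=
    (Synt29.isCIOver_atPrime_iff_of_isPushout Q'.asIdeal Q rfl).1
      (Synt29.isCIOver_atPrime_of_isLCIOver (h.2.2 p) Q'.asIdeal)
  let q : Ideal B := m.comap (Algebra.TensorProduct.includeRight : B →ₐ[A] B')
  haveI : q.IsPrime := Ideal.comap_isPrime _ _
  have hQq : Q.comap (Algebra.TensorProduct.includeRight : B →ₐ[A] F) = q := by
    ext b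
    show algebraMap F F' (algebraMap B F b) ∈ Q'.asIdeal ↔ (1 : A') ⊗ₜ[A] b ∈ m
    rw [← IsScalarTower.algebraMap_apply B F F', IsScalarTower.algebraMap_apply B B' F']
    exact SetLike.ext_iff.1 hQ' _
  have hqp : q.comap (algebraMap A B) = p₀.asIdeal := by
    ext a
    show (1 : A') ⊗ₜ[A] algebraMap A B a ∈ m ↔ algebraMap A' B' (algebraMap A A' a) ∈ m
    rw [← Algebra.TensorProduct.includeRight_apply, AlgHom.commutes, IsScalarTower.algebraMap_apply A A' B']
  haveI : Algebra.FinitePresentation B (Localization.Away (1 : B)) := IsLocalization.Away.finitePresentation 1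
  haveI : Algebra.FinitePresentation A (Localization.Away (1 : B)) := Algebra.FinitePresentation.trans A B _
  haveI : Module.Flat B (Localization.AtPrime q) := IsLocalization.flat _ q.primeCompl
  obtain ⟨g, hg, hstd⟩ := Synt29.exists_syntomic_away_iff (R := A) (S := B) p₀.asIdeal q Q hQq hqp 1
    (fun h1 => (inferInstance : q.IsPrime).ne_top ((Ideal.eq_top_iff_one _).2 h1))
    (Module.Flat.trans A B (Localization.AtPrime q)) hCI
  exact hg (hle (Ideal.subset_span ⟨g, Synt29.isSyntomic_of_isStd hstd, rfl⟩))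

theorem cancelBaseChange_one_tmul {R R₁ A C : Type u} [CommRing R] [CommRing R₁] [CommRing A] [CommRing C]
    [Algebra R R₁] [Algebra R A] [Algebra R C] [Algebra R₁ A] [IsScalarTower R R₁ A] (x : R₁ ⊗[R] C) :
    Algebra.TensorProduct.cancelBaseChange R R₁ A A C ((1 : A) ⊗ₜ[R₁] x) =
      Algebra.TensorProduct.map (IsScalarTower.toAlgHom R R₁ A) (AlgHom.id R C) x := by
  induction x using TensorProduct.induction_on with
  | zero => simp
  | add a b ha hb => rw [TensorProduct.tmul_add, map_add, ha, hb, map_add]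
  | tmul r c =>
    simp [Algebra.smul_def]

/-- The locus where `B` is syntomic spans, after base change, as soon as some finite part of it does. -/
theorem isSyntomic_baseChange_of_span {A A' B : Type u} [CommRing A] [CommRing A'] [CommRing B] [Algebra A A']
    [Algebra A B] (s : Set B) (hs : Ideal.span ((Algebra.TensorProduct.includeRight : B →ₐ[A] A' ⊗[A] B) '' s) = ⊤)
    (hgood : ∀ x ∈ s, Synt.IsSyntomic A (Localization.Away x)) : Synt.IsSyntomic A' (A' ⊗[A] B) := by
  refine Synt29.isSyntomic_of_span _ hs ?_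
  rintro _ ⟨x, hx, rfl⟩
  let U := A' ⊗[A] Localization.Away x
  let ι : A' ⊗[A] B →ₐ[A'] U :=
    Algebra.TensorProduct.map (AlgHom.id _ _) (IsScalarTower.toAlgHom A B _)
  letI : Algebra (A' ⊗[A] B) U := ι.toRingHom.toAlgebra
  haveI : IsScalarTower A' (A' ⊗[A] B) U := .of_algebraMap_eq fun a => (ι.commutes a).symm
  haveI hloc := IsLocalization.tensorProduct_tensorProduct_right A A' (Submonoid.powers x) (Localization.Away x)
    (RingHom.ext fun s => by
      show ι ((1 : A') ⊗ₜ[A] s) = _
      exact Algebra.TensorProduct.map_tmul _ _ _ _)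
  haveI : IsLocalization.Away ((Algebra.TensorProduct.includeRight : B →ₐ[A] A' ⊗[A] B) x) U := by
    show IsLocalization (Submonoid.powers _) _
    rw [← Submonoid.map_powers]
    exact hloc
  exact Synt29.isSyntomic_of_algEquiv
    ((IsLocalization.algEquiv (Submonoid.powers ((Algebra.TensorProduct.includeRight : B →ₐ[A] A' ⊗[A] B) x)) U
      (Localization.Away ((Algebra.TensorProduct.includeRight : B →ₐ[A] A' ⊗[A] B) x))).restrictScalars A')
    (KRegLib.isSyntomic_tensor (hgood x hx))

theorem one_mem_map_span {R R₁ A C : Type u} [CommRing R] [CommRing R₁] [CommRing A] [CommRing C]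
    [Algebra R R₁] [Algebra R A] [Algebra R C] [Algebra R₁ A] [IsScalarTower R R₁ A]
    [Module.Flat R₁ (R₁ ⊗[R] C)] [Algebra.FinitePresentation R C] (h : Synt.IsSyntomic A (A ⊗[R] C)) :
    Ideal.span (Algebra.TensorProduct.map (IsScalarTower.toAlgHom R R₁ A) (AlgHom.id R C) ''
      {g : R₁ ⊗[R] C | Synt.IsSyntomic R₁ (Localization.Away g)}) = ⊤ := by
  let eT := Algebra.TensorProduct.cancelBaseChange R R₁ A A C
  have h1 := congrArg (Ideal.map eT.toRingEquiv.toRingHom)
    (span_good_eq_top (A := R₁) (A' := A) (B := R₁ ⊗[R] C) (Synt29.isSyntomic_of_algEquiv eT.symm h))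
  rw [Ideal.map_span, Ideal.map_top, ← Set.image_comp] at h1
  rw [← h1]
  congr 1
  exact Set.image_congr fun x _ => (cancelBaseChange_one_tmul x).symm

/-- Descent of syntomicity to a finitely generated stage, noetherian base. -/
theorem exists_adjoin_isSyntomic {R A C : Type u} [CommRing R] [IsNoetherianRing R] [CommRing A] [Algebra R A]
    [CommRing C] [Algebra R C] [Algebra.FinitePresentation R C] (h : Synt.IsSyntomic A (A ⊗[R] C)) :
    ∃ S : Finset A, Synt.IsSyntomic (Algebra.adjoin R (S : Set A)) (Algebra.adjoin R (S : Set A) ⊗[R] C) := by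
  classical
  have hcolim : FlatCA.IsDirectedColimitRing (fun S : Finset A => Algebra.adjoin R (S : Set A))
      (fun S S' hS => (Subalgebra.inclusion (Algebra.adjoin_mono (Finset.coe_subset.mpr hS))).toRingHom) A :=
    ⟨inferInstance, ⟨∅⟩, fun S => RingHom.ext fun x => rfl, fun S S' S'' h1 h2 => RingHom.ext fun x => rfl,
      fun S S' h1 => RingHom.ext fun x => rfl, fun a => ⟨{a}, ⟨a, Algebra.subset_adjoin (by simp)⟩, rfl⟩,
      fun S x hx => ⟨S, le_rfl, Subtype.ext hx⟩⟩
  obtain ⟨S₀, hS₀⟩ := FlatSyz5.exists_flat_stage (fun S : Finset A => Algebra.adjoin R (S : Set A))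
    (fun S S' hS => Subalgebra.inclusion (Algebra.adjoin_mono (Finset.coe_subset.mpr hS))) A hcolim (B₀ := C) C h.1
  have hG := PopescuLib.Stage.isColim_adjoin R A
  let R₁ := Algebra.adjoin R (S₀ : Set A)
  haveI : Module.Flat R₁ (R₁ ⊗[R] C) := hS₀
  have h2 := one_mem_map_span (R₁ := R₁) h
  obtain ⟨t, ht, ht1⟩ := (Ideal.span_eq_top_iff_finite _).1 h2
  obtain ⟨t', ht', rfl⟩ := Finset.subset_set_image_iff.1 ht
  obtain ⟨c, hc⟩ : ∃ c : t' → A ⊗[R] C,
      ∑ x, c x * Algebra.TensorProduct.map (IsScalarTower.toAlgHom R R₁ A) (AlgHom.id R C) x.1 = 1 := by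
    rw [← Ideal.mem_span_range_iff_exists_fun]
    rw [Ideal.eq_top_iff_one, Finset.coe_image, Set.image_eq_range] at ht1
    exact ht1
  obtain ⟨S₂, c', hc'⟩ := (hG.tensorRight C).surj_fintype c
  obtain ⟨S₃, ⟨φ⟩, ⟨ψ⟩⟩ := hG.directed S₀ S₂
  let z : Algebra.adjoin R (S₃ : Set A) ⊗[R] C :=
    ∑ x, DirColim.push C ψ (c' x) * DirColim.push C φ x.1 - 1
  have hz : Algebra.TensorProduct.map (Algebra.adjoin R (S₃ : Set A)).val (AlgHom.id R C) z = 0 := by
    rw [map_sub, map_sum, map_one, sub_eq_zero, ← hc]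
    refine Finset.sum_congr rfl fun x _ => ?_
    rw [map_mul, DirColim.map_push, DirColim.map_push, hc' x]
    rfl
  obtain ⟨S₄, χ, hχ⟩ := DirColim.exists_push_eq_zero hG C z hz
  refine ⟨S₄, ?_⟩
  let R₄ := Algebra.adjoin R (S₄ : Set A)
  let φ₄ : DirColim.Trans _ S₀ S₄ := χ.comp φ
  letI : Algebra R₁ R₄ := φ₄.1.toRingHom.toAlgebra
  haveI : IsScalarTower R R₁ R₄ := IsScalarTower.of_algebraMap_eq fun r => (φ₄.1.commutes r).symm
  have he : ∀ x : R₁ ⊗[R] C, Algebra.TensorProduct.cancelBaseChange R R₁ R₄ R₄ C ((1 : R₄) ⊗ₜ[R₁] x) =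
      DirColim.push C φ₄ x := fun x => cancelBaseChange_one_tmul x
  refine Synt29.isSyntomic_of_algEquiv (Algebra.TensorProduct.cancelBaseChange R R₁ R₄ R₄ C)
    (isSyntomic_baseChange_of_span (t' : Set (R₁ ⊗[R] C)) ?_ ht')
  rw [Ideal.eq_top_iff_one]
  have hsum : ∑ x : t', DirColim.push C (χ.comp ψ) (c' x) * DirColim.push C φ₄ x.1 = 1 := by
    rw [map_sub, map_one, sub_eq_zero, map_sum] at hχ
    rw [← hχ]
    refine Finset.sum_congr rfl fun x _ => ?_
    rw [map_mul, DirColim.push_comp, DirColim.push_comp]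
  have h3 := congrArg (Algebra.TensorProduct.cancelBaseChange R R₁ R₄ R₄ C).symm hsum
  rw [map_sum, map_one] at h3
  rw [← h3]
  refine Ideal.sum_mem _ fun x _ => ?_
  rw [map_mul, ← he, AlgEquiv.symm_apply_apply]
  exact Ideal.mul_mem_left _ _ (Ideal.subset_span ⟨x.1, x.2, rfl⟩)

/-- An `R`-colimit is an `R'`-colimit. -/
theorem isColim_restrictScalars {ι : Type*} {R R' : Type u} [CommRing R] [CommRing R'] [Algebra R' R]
    {G : ι → Type u} [∀ i, CommRing (G i)] [∀ i, Algebra R (G i)] [∀ i, Algebra R' (G i)]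
    [∀ i, IsScalarTower R' R (G i)] {A : Type u} [CommRing A] [Algebra R A] [Algebra R' A] [IsScalarTower R' R A]
    {g : ∀ i, G i →ₐ[R] A} (hG : DirColim.IsColim g) :
    DirColim.IsColim (R := R') fun i => (g i).restrictScalars R' := by
  have tr : ∀ {i j}, DirColim.Trans g i j → DirColim.Trans (fun i => (g i).restrictScalars R') i j := fun {i j} φ =>
    ⟨φ.1.restrictScalars R', AlgHom.ext fun x => φ.apply x⟩
  refine ⟨hG.surj, fun i j => ?_, fun i x hx => ?_⟩
  · obtain ⟨k, ⟨φ⟩, ⟨ψ⟩⟩ := hG.directed i j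
    exact ⟨k, ⟨tr φ⟩, ⟨tr ψ⟩⟩
  · obtain ⟨j, φ, hφ⟩ := hG.ker i x hx
    exact ⟨j, ⟨φ.1.restrictScalars R', AlgHom.ext fun x => φ.apply x⟩, hφ⟩

/-- Syntomicity descends to a stage. -/
theorem exists_isSyntomic {ι : Type*} {R : Type u} [CommRing R] {G : ι → Type u} [∀ i, CommRing (G i)]
    [∀ i, Algebra R (G i)] {A : Type u} [CommRing A] [Algebra R A] {g : ∀ i, G i →ₐ[R] A} {C : Type u} [CommRing C]
    [Algebra R C] [Algebra.FinitePresentation R C] (hG : DirColim.IsColim g)
    (h : Synt.IsSyntomic A (A ⊗[R] C)) : ∃ i, Synt.IsSyntomic (G i) (G i ⊗[R] C) := by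
  classical
  let P := Algebra.Presentation.ofFinitePresentation R C
  let R' := P.Core
  haveI : Algebra.FiniteType ℤ R' := inferInstance
  haveI : IsNoetherianRing R' := Algebra.FiniteType.isNoetherianRing ℤ R'
  let C' := P.ModelOfHasCoeffs R'
  let e₀ : R ⊗[R'] C' ≃ₐ[R] C := P.tensorModelOfHasCoeffsEquiv R'
  letI : ∀ i, Algebra R' (G i) := fun i => ((algebraMap R (G i)).comp (algebraMap R' R)).toAlgebra
  haveI : ∀ i, IsScalarTower R' R (G i) := fun i => IsScalarTower.of_algebraMap_eq fun _ => rfl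
  letI : Algebra R' A := ((algebraMap R A).comp (algebraMap R' R)).toAlgebra
  haveI : IsScalarTower R' R A := IsScalarTower.of_algebraMap_eq fun _ => rfl
  let E : ∀ (X : Type u) [CommRing X] [Algebra R X] [Algebra R' X] [IsScalarTower R' R X],
      X ⊗[R] C ≃ₐ[X] X ⊗[R'] C' := fun X _ _ _ _ =>
    (Algebra.TensorProduct.congr AlgEquiv.refl e₀.symm).trans (Algebra.TensorProduct.cancelBaseChange R' R X X C')
  obtain ⟨S, hS⟩ := exists_adjoin_isSyntomic (C := C') (Synt29.isSyntomic_of_algEquiv (E A) h)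
  let R₄ := Algebra.adjoin R' (S : Set A)
  haveI : Algebra.FiniteType R' R₄ := (Subalgebra.fg_iff_finiteType R₄).1 (Subalgebra.fg_adjoin_finset S)
  haveI : Algebra.FinitePresentation R' R₄ := Algebra.FinitePresentation.of_finiteType.1 inferInstance
  obtain ⟨i, ψ, -⟩ := (isColim_restrictScalars (R' := R') hG).exists_lift R₄.val
  letI : Algebra R₄ (G i) := ψ.toRingHom.toAlgebra
  haveI : IsScalarTower R' R₄ (G i) := IsScalarTower.of_algebraMap_eq fun r => (ψ.commutes r).symm
  refine ⟨i, Synt29.isSyntomic_of_algEquiv ?_ (KRegLib.isSyntomic_tensor (A' := G i) hS)⟩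
  exact (Algebra.TensorProduct.cancelBaseChange R' R₄ (G i) (G i) C').trans (E (G i)).symm

end Groth.Agent.H1Syn
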